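import Cfsg.Agent.S3360
import Cfsg.Agent.Core.Hall
import Mathlib.FieldTheory.Finite.GaloisField
import Mathlib.LinearAlgebra.Matrix.GeneralLinearGroup.Card
import Mathlib.LinearAlgebra.Dimension.Finrank

/-!
Solvable linear groups transitive on the subspaces of each dimension.
-/

set_option autoImplicit false
set_option linter.unusedSectionVars false
set_option linter.style.haveILetI false

namespace Cfsg.Agent.ConjPSub

open Module Subgroup

universe u

variable {p : ℕ} [hp : Fact p.Prime]

theorem arith {n L : ℕ} (hn : 3 ≤ n) (hL : L * ((p ^ 2 - 1) * (p ^ 2 - p)) = (p ^ n - 1) * (p ^ n - p))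
    (hd : L * (p - 1) ∣ n * (p ^ n - 1)) : n = 3 ∨ (n = 5 ∧ p = 2) := by
  have h2 : 2 ≤ p := hp.out.two_le
  have hq : 0 < p ^ n - 1 := by
    have : 1 < p ^ n := Nat.one_lt_pow (by omega) h2
    omega
  have h1 : (p ^ n - 1) * ((p ^ n - p) * (p - 1)) ∣ (p ^ n - 1) * (n * ((p ^ 2 - 1) * (p ^ 2 - p))) := by
    have := Nat.mul_dvd_mul_right hd ((p ^ 2 - 1) * (p ^ 2 - p))
    rw [mul_right_comm L, hL] at this
    convert this using 1 <;> ring
  replace h1 := Nat.dvd_of_mul_dvd_mul_left hq h1
  have e1 : p ^ n - p = p * (p ^ (n - 1) - 1) := by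
    conv_lhs => rw [show n = n - 1 + 1 by omega]
    rw [Nat.mul_sub, mul_one, pow_succ, mul_comm]
  have e2 : p ^ 2 - p = p * (p - 1) := by rw [Nat.mul_sub, mul_one, pow_two]
  have h3 : p ^ (n - 1) - 1 ∣ n * (p ^ 2 - 1) := by
    refine Nat.dvd_of_mul_dvd_mul_left (show 0 < p * (p - 1) from Nat.mul_pos (by omega) (by omega)) ?_
    rw [e1, e2] at h1
    convert h1 using 1 <;> ring
  have hp4 : 4 ≤ p ^ 2 := by rw [pow_two]; exact Nat.mul_le_mul h2 h2
  have hle : p ^ (n - 1) - 1 ≤ n * (p ^ 2 - 1) := Nat.le_of_dvd (Nat.mul_pos (by omega) (by omega)) h3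
  by_contra hcon
  push Not at hcon
  obtain ⟨h3', h5'⟩ := hcon
  rcases Nat.lt_or_ge n 6 with h6 | h6
  · interval_cases n
    · exact h3' rfl
    · have : p < 5 := by
        by_contra hge
        push Not at hge
        have : 5 * p ^ 2 ≤ p ^ 3 := by rw [pow_succ' p 2]; exact Nat.mul_le_mul hge le_rfl
        norm_num at hle
        omega
      have hpp := hp.out
      interval_cases p <;> revert h3 hpp <;> norm_num
    · refine h5' rfl ?_
      by_contra hne
      have h9 : 9 ≤ p ^ 2 := by rw [pow_two]; exact Nat.mul_le_mul (show 3 ≤ p by omega) (show 3 ≤ p by omega)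
      have : 9 * p ^ 2 ≤ p ^ 4 := by rw [show p ^ 4 = p ^ 2 * p ^ 2 by ring]; exact Nat.mul_le_mul h9 le_rfl
      norm_num at hle
      omega
  · have hk : ∀ m, 6 ≤ m → m < 2 ^ (m - 3) := by
      intro m hm
      induction m, hm using Nat.le_induction with
      | base => norm_num
      | succ m hm ih => rw [show m + 1 - 3 = m - 3 + 1 by omega, pow_succ]; omega
    have h4 : (n + 1) * p ^ 2 ≤ p ^ (n - 1) := by
      rw [show n - 1 = n - 3 + 2 by omega, pow_add]
      exact Nat.mul_le_mul ((hk n h6).trans_le (Nat.pow_le_pow_left h2 _)) le_rfl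
    rw [Nat.mul_sub, mul_one] at hle
    rw [add_mul, one_mul] at h4
    omega

variable {V : Type u} [AddCommGroup V] [Module (ZMod p) V] [Finite V]

instance finite_linearEquiv : Finite (V ≃ₗ[ZMod p] V) :=
  Finite.of_injective (fun e : V ≃ₗ[ZMod p] V => (e : V → V)) DFunLike.coe_injective

/-- the scalar maps -/
def scal : (ZMod p)ˣ →* (V ≃ₗ[ZMod p] V) where
  toFun c := LinearEquiv.smulOfUnit c
  map_one' := LinearEquiv.ext fun v => one_smul (ZMod p)ˣ v
  map_mul' a b := LinearEquiv.ext fun v => mul_smul a b v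

theorem scal_apply (c : (ZMod p)ˣ) (v : V) : scal c v = (c : ZMod p) • v := rfl

theorem scal_commute (g : V ≃ₗ[ZMod p] V) (c : (ZMod p)ˣ) : Commute g (scal c) :=
  LinearEquiv.ext fun v => by simp [scal_apply]

variable (V) in
/-- the two-dimensional subspaces -/
abbrev Plane : Type u := {W : Submodule (ZMod p) V // finrank (ZMod p) W = 2}

theorem card_plane : Nat.card (Plane (p := p) V) * ((p ^ 2 - 1) * (p ^ 2 - p)) =
      (p ^ finrank (ZMod p) V - 1) * (p ^ finrank (ZMod p) V - p) ∨ finrank (ZMod p) V < 2 := by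
  classical
  by_cases h2 : finrank (ZMod p) V < 2
  · exact Or.inr h2
  left
  have hV : ∀ (U : Type u) [AddCommGroup U] [Module (ZMod p) U] [Finite U], 2 ≤ finrank (ZMod p) U →
      Nat.card {s : Fin 2 → U // LinearIndependent (ZMod p) s} =
        (p ^ finrank (ZMod p) U - 1) * (p ^ finrank (ZMod p) U - p) := by
    intro U _ _ _ hU
    have := Fintype.ofFinite U
    rw [card_linearIndependent hU, Fin.prod_univ_two]
    simp [ZMod.card]
  let f : (Σ W : Plane (p := p) V, {t : Fin 2 → W.1 // LinearIndependent (ZMod p) t}) →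
      {s : Fin 2 → V // LinearIndependent (ZMod p) s} :=
    fun x => ⟨fun i => (x.2.1 i : V), x.2.2.map' x.1.1.subtype (Submodule.ker_subtype _)⟩
  have hspan : ∀ x, Submodule.span (ZMod p) (Set.range (f x).1) = x.1.1 := fun x =>
    Submodule.eq_of_le_of_finrank_eq (Submodule.span_le.mpr (by rintro _ ⟨i, rfl⟩; exact (x.2.1 i).2))
      (by rw [finrank_span_eq_card (f x).2, x.1.2, Fintype.card_fin])
  have hf : Function.Bijective f := by
    constructor
    · rintro ⟨W, t⟩ ⟨W', t'⟩ h
      obtain rfl : W = W' := Subtype.ext (by rw [← hspan ⟨W, t⟩, ← hspan ⟨W', t'⟩, h])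
      refine Sigma.ext rfl (heq_of_eq (Subtype.ext (funext fun i => Subtype.ext ?_)))
      exact congrFun (congrArg Subtype.val h) i
    · intro s
      refine ⟨⟨⟨Submodule.span (ZMod p) (Set.range s.1), by rw [finrank_span_eq_card s.2, Fintype.card_fin]⟩,
        ⟨fun i => ⟨s.1 i, Submodule.subset_span ⟨i, rfl⟩⟩, ?_⟩⟩, rfl⟩
      exact LinearIndependent.of_comp (Submodule.span (ZMod p) (Set.range s.1)).subtype s.2
  have := Fintype.ofFinite (Plane (p := p) V)
  rw [← hV V (by omega), ← Nat.card_congr (Equiv.ofBijective f hf), Nat.card_sigma]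
  rw [Finset.sum_congr rfl fun W _ => (hV W.1 W.2.ge).trans (by rw [W.2])]
  rw [Finset.sum_const, Finset.card_univ, smul_eq_mul, Nat.card_eq_fintype_card]

theorem plane_dvd {G : Subgroup (V ≃ₗ[ZMod p] V)} [Nontrivial V] (hscal : ∀ c, scal c ∈ G)
    (h2 : 2 ≤ finrank (ZMod p) V)
    (hplane : ∀ W W' : Plane (p := p) V, ∃ g ∈ G, W.1.map (g : V →ₗ[ZMod p] V) = W'.1) :
    Nat.card (Plane (p := p) V) * (p - 1) ∣ Nat.card G := by
  classical
  let act : MulAction G (Plane (p := p) V) :=
    { smul := fun g W => ⟨W.1.map ((g : V ≃ₗ[ZMod p] V) : V →ₗ[ZMod p] V),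
        ((g : V ≃ₗ[ZMod p] V).finrank_map_eq W.1).trans W.2⟩
      one_smul := fun W => Subtype.ext (Submodule.map_id W.1)
      mul_smul := fun a b W => Subtype.ext (by
        show W.1.map _ = (W.1.map _).map _
        rw [← Submodule.map_comp]; rfl) }
  haveI : MulAction.IsPretransitive G (Plane (p := p) V) := ⟨fun W W' => by
    obtain ⟨g, hg, e⟩ := hplane W W'
    exact ⟨⟨g, hg⟩, Subtype.ext e⟩⟩
  obtain ⟨W0⟩ : Nonempty (Plane (p := p) V) := by
    have := Fintype.ofFinite V
    obtain ⟨W, hW⟩ : ∃ W : Submodule (ZMod p) V, finrank (ZMod p) W = 2 := by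
      let b := Module.finBasis (ZMod p) V
      refine ⟨Submodule.span (ZMod p) (Set.range fun i : Fin 2 => b (Fin.castLE h2 i)), ?_⟩
      rw [show (fun i : Fin 2 => b (Fin.castLE h2 i)) = ⇑b ∘ Fin.castLE h2 from rfl,
        finrank_span_eq_card (b.linearIndependent.comp _ (Fin.castLE_injective h2)), Fintype.card_fin]
    exact ⟨⟨W, hW⟩⟩
  rw [← MulAction.index_stabilizer_of_transitive G W0, mul_comm,
    ← (MulAction.stabilizer G W0).card_mul_index]
  refine Nat.mul_dvd_mul_right ?_ _
  let ψ : (ZMod p)ˣ →* MulAction.stabilizer G W0 :=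
    ((scal (V := V)).codRestrict G hscal).codRestrict _ fun c => by
      refine MulAction.mem_stabilizer_iff.mpr (Subtype.ext ?_)
      show W0.1.map ((scal c : V ≃ₗ[ZMod p] V) : V →ₗ[ZMod p] V) = W0.1
      refine Submodule.eq_of_le_of_finrank_eq ?_ ((scal c).finrank_map_eq W0.1)
      rintro _ ⟨v, hv, rfl⟩
      exact W0.1.smul_mem _ hv
  have hψ : Function.Injective ψ := fun a b h => by
    obtain ⟨v, hv⟩ := exists_ne (0 : V)
    have h' : (a : ZMod p) • v = (b : ZMod p) • v := by
      rw [← scal_apply, ← scal_apply]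
      exact congrArg (fun x : MulAction.stabilizer G W0 => ((x : G) : V ≃ₗ[ZMod p] V) v) h
    exact Units.ext (smul_left_injective (ZMod p) hv h')
  have := Subgroup.card_dvd_of_injective ψ hψ
  rwa [Nat.card_units, Nat.card_zmod] at this

theorem card_semilinear_dvd (G : Subgroup (V ≃ₗ[ZMod p] V)) {n : ℕ} (hn : n ≠ 0) (e : V ≃+ GaloisField p n)
    (hs : ∀ g ∈ G, ∃ (a : GaloisField p n) (σ : GaloisField p n ≃+* GaloisField p n),
      ∀ v, e (g v) = a * σ (e v)) :
    Nat.card (GaloisField p n ≃+* GaloisField p n) = n ∧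
    ∃ π : G →* (GaloisField p n ≃+* GaloisField p n),
      (∀ g, π g = 1 → ∃ a : GaloisField p n, ∀ v, e ((g : V ≃ₗ[ZMod p] V) v) = a * e v) ∧
      Nat.card G ∣ n * (p ^ n - 1) := by
  classical
  set F := GaloisField p n
  have hcard : Nat.card (F ≃+* F) = n := by
    let E : (F ≃+* F) ≃ Gal(F/ZMod p) :=
      { toFun := fun σ => AlgEquiv.ofRingEquiv (f := σ) fun x => by
          exact RingHom.congr_fun (Subsingleton.elim ((σ : F →+* F).comp (algebraMap (ZMod p) F))
            (algebraMap (ZMod p) F)) x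
        invFun := fun σ => σ.toRingEquiv
        left_inv := fun σ => rfl
        right_inv := fun σ => rfl }
    rw [Nat.card_congr E, IsGalois.card_aut_eq_finrank, GaloisField.finrank p hn]
  refine ⟨hcard, ?_⟩
  choose a σ hσ using fun g : G => hs g g.2
  have ha : ∀ g, a g ≠ 0 := fun g h0 => by
    have h1 := hσ g (e.symm 1)
    rw [h0, zero_mul, e.map_eq_zero_iff] at h1
    simp at h1
  have huniq : ∀ (g : G) (b : F) (τ : F ≃+* F), (∀ v, e ((g : V ≃ₗ[ZMod p] V) v) = b * τ (e v)) →
      b = a g ∧ τ = σ g := by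
    intro g b τ h
    have h1 : b = a g := by
      have := (h (e.symm 1)).symm.trans (hσ g (e.symm 1))
      simpa using this
    refine ⟨h1, RingEquiv.ext fun y => ?_⟩
    have := (h (e.symm y)).symm.trans (hσ g (e.symm y))
    rw [e.apply_symm_apply, h1] at this
    exact mul_left_cancel₀ (ha g) this
  have hmul : ∀ g h : G, a (g * h) = a g * σ g (a h) ∧ σ (g * h) = σ g * σ h := fun g h => by
    have := huniq (g * h) (a g * σ g (a h)) (σ g * σ h) fun v => by
      show e ((g : V ≃ₗ[ZMod p] V) ((h : V ≃ₗ[ZMod p] V) v)) = _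
      rw [hσ g, hσ h, map_mul, mul_assoc]; rfl
    exact ⟨this.1.symm, this.2.symm⟩
  let π : G →* (F ≃+* F) :=
    MonoidHom.mk' σ fun g h => (hmul g h).2
  refine ⟨π, fun g hg => ⟨a g, fun v => ?_⟩, ?_⟩
  · rw [hσ g v, show σ g = 1 from hg]; rfl
  · rw [← π.ker.index_mul_card, index_ker]
    refine Nat.mul_dvd_mul ?_ ?_
    · exact (card_subgroup_dvd_card _).trans hcard.dvd
    · let χ : π.ker →* Fˣ :=
        MonoidHom.mk' (fun g => Units.mk0 (a g.1) (ha g.1)) fun g h => Units.ext (by
          show a (g.1 * h.1) = a g.1 * a h.1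
          rw [(hmul g.1 h.1).1, show σ g.1 = 1 from g.2]; rfl)
      have hχ : Function.Injective χ := fun g h he => by
        refine Subtype.ext (Subtype.ext (LinearEquiv.ext fun v => e.injective ?_))
        rw [hσ g.1, hσ h.1, show σ g.1 = 1 from g.2, show σ h.1 = 1 from h.2,
          show a g.1 = a h.1 from congrArg Units.val he]
      have h1 := Subgroup.card_dvd_of_injective χ hχ
      rwa [Nat.card_units, GaloisField.card p n hn] at h1

theorem three_fifth : ∀ c : ZMod 3, c ^ 5 = 1 → c = 1 := by decide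

theorem two_one : ∀ z : ZMod 2, z ≠ 0 → z = 1 := by decide

theorem not_exceptional {V : Type u} [AddCommGroup V] [Module (ZMod 3) V] [Finite V]
    (G : Subgroup (V ≃ₗ[ZMod 3] V)) [Group.IsSolvable G] (h4 : finrank (ZMod 3) V = 4)
    (h65 : 65 ∣ Nat.card G) : False := by
  classical
  haveI : Fact (Nat.Prime 3) := ⟨Nat.prime_three⟩
  haveI : Fact (Nat.Prime 5) := ⟨by norm_num⟩
  haveI : Fact (Nat.Prime 13) := ⟨by norm_num⟩
  have hV : Nat.card V = 81 := by
    rw [Module.natCard_eq_pow_finrank (K := ZMod 3) (V := V), Nat.card_zmod, h4]; norm_num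
  have hGL : Nat.card G ∣ 24261120 := by
    let b := Module.finBasisOfFinrankEq (ZMod 3) V h4
    let E : (V ≃ₗ[ZMod 3] V) ≃* GL (Fin 4) (ZMod 3) :=
      (LinearMap.GeneralLinearGroup.generalLinearEquiv (ZMod 3) V).symm.trans
        (Units.mapEquiv (LinearMap.toMatrixAlgEquiv b).toMulEquiv)
    refine (card_subgroup_dvd_card G).trans (dvd_of_eq ?_)
    rw [Nat.card_congr E.toEquiv, Matrix.card_GL_field]
    simp [Fin.prod_univ_four, ZMod.card]
  obtain ⟨r, hr⟩ := h65
  have hc : Nat.Coprime 65 r := by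
    have h5 : ¬ 5 ∣ r := fun ⟨s, hs⟩ => by
      have : 325 ∣ 24261120 := Dvd.dvd.trans ⟨s, by rw [hr, hs]; ring⟩ hGL
      norm_num at this
    have h13 : ¬ 13 ∣ r := fun ⟨s, hs⟩ => by
      have : 845 ∣ 24261120 := Dvd.dvd.trans ⟨s, by rw [hr, hs]; ring⟩ hGL
      norm_num at this
    rw [show (65 : ℕ) = 5 * 13 by norm_num]
    exact Nat.Coprime.mul_left ((Nat.Prime.coprime_iff_not_dvd (by norm_num)).mpr h5)
      ((Nat.Prime.coprime_iff_not_dvd (by norm_num)).mpr h13)
  obtain ⟨M, hM⟩ := Core.exists_hall hr hc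
  obtain ⟨S⟩ := (inferInstance : Nonempty (Sylow 13 M))
  have hSn : Nat.card (Sylow 13 M) = 1 := by
    have h1 := card_sylow_modEq_one 13 M
    have h2 : Nat.card (Sylow 13 M) ∣ 65 := hM ▸ S.card_dvd_index.trans (index_dvd_card _)
    have h3 : Nat.card (Sylow 13 M) ≤ 65 := Nat.le_of_dvd (by norm_num) h2
    interval_cases h : Nat.card (Sylow 13 M) <;> simp_all [Nat.ModEq]
  haveI : Subsingleton (Sylow 13 M) := (Nat.card_eq_one_iff_unique.mp hSn).1
  haveI hSN : (S : Subgroup M).Normal := inferInstance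
  obtain ⟨y, hy⟩ := exists_prime_orderOf_dvd_card' (G := M) 5 (by rw [hM]; norm_num)
  have hS13 : Nat.card S = 13 := by
    rw [S.card_eq_multiplicity, hM, show (65 : ℕ) = 5 * 13 by norm_num,
      Nat.factorization_mul (by norm_num) (by norm_num), Finsupp.add_apply,
      Nat.Prime.factorization_self (by norm_num : Nat.Prime 13),
      Nat.factorization_eq_zero_of_not_dvd (by norm_num : ¬ 13 ∣ 5)]
    norm_num
  -- the action on `V`
  let ι : M →* (V ≃ₗ[ZMod 3] V) := G.subtype.comp M.subtype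
  have hι : Function.Injective ι := G.subtype_injective.comp M.subtype_injective
  let W : Submodule (ZMod 3) V :=
    { carrier := {v | ∀ x : S, ι (x : M) v = v}
      add_mem' := fun {a b} ha hb x => by rw [map_add, ha x, hb x]
      zero_mem' := fun x => map_zero _
      smul_mem' := fun c v hv x => by rw [map_smul, hv x] }
  have hk : ∀ U : Submodule (ZMod 3) V, ∃ k, k ≤ 4 ∧ Nat.card U = 3 ^ k := fun U =>
    ⟨finrank (ZMod 3) U, h4 ▸ U.finrank_le, by
      rw [Module.natCard_eq_pow_finrank (K := ZMod 3) (V := U), Nat.card_zmod]⟩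
  obtain ⟨k, hk4, hWk⟩ := hk W
  have hWmod : Nat.card W ≡ 81 [MOD 13] := by
    let act : MulAction S V :=
      { smul := fun x v => ι (x : M) v
        one_smul := fun v => by show ι 1 v = v; rw [map_one]; rfl
        mul_smul := fun x z v => by show ι ((x : M) * z) v = _; rw [map_mul]; rfl }
    have := S.2.card_modEq_card_fixedPoints (α := V)
    rw [hV] at this
    exact this.symm
  have hk1 : k = 1 := by
    rw [hWk] at hWmod
    interval_cases k <;> first | rfl | (exfalso; revert hWmod; norm_num [Nat.ModEq]; done) | skip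
    have htop : W = ⊤ := Submodule.eq_top_of_finrank_eq (by
      rw [h4]
      rw [Module.natCard_eq_pow_finrank (K := ZMod 3) (V := W), Nat.card_zmod] at hWk
      exact Nat.pow_right_injective (by norm_num : 2 ≤ 3) hWk)
    have : Nat.card S ≤ 1 := by
      rw [Finite.card_le_one_iff_subsingleton]
      refine ⟨fun a b => ?_⟩
      refine Subtype.ext (hι (LinearEquiv.ext fun v => ?_))
      have hv : v ∈ W := htop ▸ trivial
      rw [hv a, hv b]
    omega
  rw [hk1, pow_one] at hWk
  haveI : Nontrivial W := Finite.one_lt_card_iff_nontrivial.mp (by omega)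
  obtain ⟨⟨w, hw⟩, hw0⟩ := exists_ne (0 : W)
  replace hw0 : w ≠ 0 := fun h => hw0 (Subtype.ext h)
  have hyw : ι y w ∈ W := by
    intro x
    have h1 : ι (y⁻¹ * x * y) w = w := hw ⟨_, hSN.conj_mem' _ x.2 y⟩
    calc ι (x : M) (ι y w) = ι ((x : M) * y) w := by rw [map_mul]; rfl
      _ = ι (y * (y⁻¹ * x * y)) w := by congr 2; group
      _ = ι y (ι (y⁻¹ * x * y) w) := by rw [map_mul]; rfl
      _ = ι y w := by rw [h1]
  obtain ⟨c, hcy⟩ : ∃ c : ZMod 3, ι y w = c • w := by
    have h1 : finrank (ZMod 3) W = 1 := by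
      rw [Module.natCard_eq_pow_finrank (K := ZMod 3) (V := W), Nat.card_zmod] at hWk
      exact Nat.pow_right_injective (by norm_num : 2 ≤ 3) (hWk.trans (pow_one 3).symm)
    obtain ⟨c, hc⟩ := (finrank_eq_one_iff_of_nonzero' (⟨w, hw⟩ : W) (fun h => hw0 (congrArg Subtype.val h))).mp h1
      ⟨_, hyw⟩
    exact ⟨c, (congrArg Subtype.val hc).symm⟩
  have hyfix : ι y w = w := by
    have hpow : ∀ j : ℕ, (ι y ^ j) w = c ^ j • w := fun j => by
      induction j with
      | zero => simp
      | succ j ih =>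
        rw [pow_succ', LinearEquiv.mul_apply, ih, map_smul, hcy, smul_smul, pow_succ]
    have h5 := hpow 5
    rw [← map_pow, ← hy, pow_orderOf_eq_one, map_one, hy] at h5
    have hc5 : c ^ 5 = 1 := (smul_left_injective (ZMod 3) hw0 (h5.symm.trans (one_smul (ZMod 3) w).symm))
    have : c = 1 := by
      exact three_fifth c hc5
    rw [hcy, this, one_smul]
  let U : Submodule (ZMod 3) V :=
    { carrier := {v | ι y v = v}
      add_mem' := fun {a b} ha hb => by show ι y (a + b) = a + b; rw [map_add, ha, hb]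
      zero_mem' := map_zero _
      smul_mem' := fun c v hv => by show ι y (c • v) = c • v; rw [map_smul, hv] }
  obtain ⟨j, hj4, hUj⟩ := hk U
  have hUmod : Nat.card U ≡ 81 [MOD 5] := by
    let act : MulAction (zpowers y) V :=
      { smul := fun x v => ι (x : M) v
        one_smul := fun v => by show ι 1 v = v; rw [map_one]; rfl
        mul_smul := fun x z v => by show ι ((x : M) * z) v = _; rw [map_mul]; rfl }
    have hp5 : IsPGroup 5 (zpowers y) := IsPGroup.of_card (n := 1) (by rw [Nat.card_zpowers, hy, pow_one])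
    have h1 := hp5.card_modEq_card_fixedPoints (α := V)
    have h2 : Nat.card U = Nat.card (MulAction.fixedPoints (zpowers y) V) := Nat.card_congr
      { toFun := fun v => ⟨v.1, fun x => by
          have hle : zpowers y ≤ (MulAction.stabilizer (V ≃ₗ[ZMod 3] V) (v.1 : V)).comap ι :=
            zpowers_le.mpr v.2
          exact hle x.2⟩
        invFun := fun v => ⟨v.1, v.2 ⟨y, mem_zpowers y⟩⟩
        left_inv := fun v => rfl
        right_inv := fun v => rfl }
    rw [hV, ← h2] at h1
    exact h1.symm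
  rw [hUj] at hUmod
  have hj : j = 0 ∨ j = 4 := by
    interval_cases j <;> first | (left; rfl) | (right; rfl) | (exfalso; revert hUmod; norm_num [Nat.ModEq])
  rcases hj with rfl | rfl
  · rw [pow_zero] at hUj
    haveI := (Nat.card_eq_one_iff_unique.mp hUj).1
    exact hw0 (congrArg Subtype.val (Subsingleton.elim (⟨w, hyfix⟩ : U) 0))
  · have htop : U = ⊤ := Submodule.eq_top_of_finrank_eq (by
      rw [h4]
      rw [Module.natCard_eq_pow_finrank (K := ZMod 3) (V := U), Nat.card_zmod] at hUj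
      exact Nat.pow_right_injective (by norm_num : 2 ≤ 3) hUj)
    have : y = 1 := hι (LinearEquiv.ext fun v => by
      rw [map_one]
      exact (show v ∈ U from htop ▸ trivial))
    rw [this, orderOf_one] at hy
    exact absurd hy (by norm_num)

/-- Solvable linear groups transitive on subspaces of equal size, in dimension at least three. -/
theorem linear_cases {n : ℕ} (hn : 3 ≤ n) (hV : Nat.card V = p ^ n) (R : Subgroup (V ≃ₗ[ZMod p] V))
    [Group.IsSolvable R]
    (htr : ∀ W W' : Submodule (ZMod p) V, Nat.card W = Nat.card W' →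
      ∃ r ∈ R, W.map (r : V →ₗ[ZMod p] V) = W') :
    (n = 3 ∨ (n = 5 ∧ p = 2)) ∧ ∃ e : V ≃+ GaloisField p n,
      (∀ r ∈ R, ∃ (a : GaloisField p n) (σ : GaloisField p n ≃+* GaloisField p n),
        ∀ v, e (r v) = a * σ (e v)) ∧
      (p = 2 → n = 5 → Nat.card R = 155) ∧
      (p = 2 → n = 3 → Nat.card R = 21 ∨
        (Nat.card R = 7 ∧ ∀ r ∈ R, ∃ a : GaloisField p n, ∀ v, e (r v) = a * e v)) := by
  classical
  have hfin : finrank (ZMod p) V = n := by
    rw [Module.natCard_eq_pow_finrank (K := ZMod p) (V := V), Nat.card_zmod] at hV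
    exact Nat.pow_right_injective hp.out.two_le hV
  haveI : Nontrivial V := Module.nontrivial_of_finrank_pos (R := ZMod p) (by omega)
  let ext : R × (ZMod p)ˣ →* (V ≃ₗ[ZMod p] V) :=
    MonoidHom.noncommCoprod R.subtype scal fun r c => scal_commute _ c
  set G := ext.range with hG
  haveI : Group.IsSolvable G := Group.isSolvable_of_surjective ext.rangeRestrict_surjective
  have hRG : R ≤ G := fun r hr => ⟨(⟨r, hr⟩, 1), by simp [ext]⟩
  have hsG : ∀ c, scal c ∈ G := fun c => ⟨(1, c), by simp [ext]⟩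
  have hline : ∀ v w : V, v ≠ 0 → w ≠ 0 → ∃ g ∈ G, g v = w := by
    intro v w hv hw
    obtain ⟨r, hr, e⟩ := htr (Submodule.span (ZMod p) {v}) (Submodule.span (ZMod p) {w}) (by
      rw [Module.natCard_eq_pow_finrank (K := ZMod p) (V := Submodule.span (ZMod p) {v}),
        Module.natCard_eq_pow_finrank (K := ZMod p) (V := Submodule.span (ZMod p) {w}),
        finrank_span_singleton hv, finrank_span_singleton hw])
    have h1 : r v ∈ Submodule.span (ZMod p) {w} :=
      e ▸ Submodule.mem_map_of_mem (Submodule.mem_span_singleton_self v)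
    obtain ⟨c, hc⟩ := Submodule.mem_span_singleton.mp h1
    have hc0 : c ≠ 0 := fun h0 => hv (by
      rw [h0, zero_smul] at hc
      exact r.map_eq_zero_iff.mp hc.symm)
    refine ⟨scal (Units.mk0 c hc0)⁻¹ * r, mul_mem (hsG _) (hRG hr), ?_⟩
    rw [LinearEquiv.mul_apply, scal_apply, ← hc, Units.val_inv_eq_inv_val, Units.val_mk0,
      inv_smul_smul₀ hc0]
  have hplane : ∀ W W' : Plane (p := p) V, ∃ g ∈ G, W.1.map (g : V →ₗ[ZMod p] V) = W'.1 := by
    intro W W'
    obtain ⟨r, hr, e⟩ := htr W.1 W'.1 (by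
      rw [Module.natCard_eq_pow_finrank (K := ZMod p) (V := W.1),
        Module.natCard_eq_pow_finrank (K := ZMod p) (V := W'.1), W.2, W'.2])
    exact ⟨r, hRG hr, e⟩
  have hdvd := plane_dvd hsG (by omega) hplane
  have hL := (card_plane (p := p) (V := V)).resolve_right (by omega)
  rw [hfin] at hL
  set L := Nat.card (Plane (p := p) V)
  rcases S3360.result p (V := V) (G := G) inferInstance G.subtype G.subtype_injective
    (fun v w hv hw => by
      obtain ⟨g, hg, e⟩ := hline v w hv hw
      exact ⟨⟨g, hg⟩, e⟩) with ⟨F, _, _, e0, he0⟩ | hexc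
  · have hFc : Fintype.card F = p ^ n := by
      rw [← Nat.card_eq_fintype_card, ← Nat.card_congr e0.toEquiv, hV]
    have : Fintype (GaloisField p n) := Fintype.ofFinite _
    obtain ⟨ψ⟩ : Nonempty (F ≃+* GaloisField p n) := ⟨FiniteField.ringEquivOfCardEq (K := F) (K' := GaloisField p n) (by
      rw [hFc, ← Nat.card_eq_fintype_card, GaloisField.card p n (by omega)])⟩
    let e : V ≃+ GaloisField p n := e0.trans ψ.toAddEquiv
    have hs : ∀ g ∈ G, ∃ (a : GaloisField p n) (σ : GaloisField p n ≃+* GaloisField p n),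
        ∀ v, e (g v) = a * σ (e v) := by
      intro g hg
      obtain ⟨a, σ, h⟩ := he0 ⟨g, hg⟩
      refine ⟨ψ a, ψ.symm.trans (σ.trans ψ), fun v => ?_⟩
      show ψ (e0 (g v)) = ψ a * ψ (σ (ψ.symm (ψ (e0 v))))
      rw [ψ.symm_apply_apply, ← map_mul]
      exact congrArg ψ (h v)
    obtain ⟨hcard, π, hπ, hGd⟩ := card_semilinear_dvd G (by omega : n ≠ 0) e hs
    have hn35 := arith hn hL (hdvd.trans hGd)
    have hGR : p = 2 → G = R := by
      intro h2
      subst h2
      refine le_antisymm ?_ hRG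
      rintro _ ⟨⟨r, c⟩, rfl⟩
      have : c = 1 := Units.ext (two_one _ c.ne_zero)
      subst this
      simp [ext]
    refine ⟨hn35, e, fun r hr => hs r (hRG hr), ?_, ?_⟩
    · intro h2 h5
      rw [← hGR h2]
      subst h2 h5
      norm_num at hL hGd hdvd
      have hL' : L = 155 := by omega
      rw [hL'] at hdvd
      exact Nat.dvd_antisymm hGd hdvd
    · intro h2 h3
      have hGR' := hGR h2
      subst h2 h3
      norm_num at hL hGd hdvd
      have hL' : L = 7 := by omega
      rw [hL'] at hdvd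
      obtain ⟨t, ht⟩ := hdvd
      have ht3 : t ∣ 3 := Nat.dvd_of_mul_dvd_mul_left (by norm_num : 0 < 7) (ht ▸ hGd)
      rcases (Nat.dvd_prime Nat.prime_three).mp ht3 with rfl | rfl
      · right
        have hG7 : Nat.card G = 7 := ht
        refine ⟨hGR' ▸ hG7, fun r hr => hπ ⟨r, hRG hr⟩ ?_⟩
        have h1 : orderOf (π ⟨r, hRG hr⟩) ∣ 7 :=
          (orderOf_map_dvd π _).trans (hG7 ▸ orderOf_dvd_natCard _)
        have h2 : orderOf (π ⟨r, hRG hr⟩) ∣ 3 := by
          exact (_root_.orderOf_dvd_natCard _).trans hcard.dvd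
        exact orderOf_eq_one_iff.mp (Nat.eq_one_of_dvd_coprimes (by norm_num) h1 h2)
      · left
        exact hGR' ▸ ht
  · exfalso
    rw [hV] at hexc
    have hp' := hp.out
    have h2 := hp'.two_le
    have hp3 : p ^ 3 ≤ p ^ n := Nat.pow_le_pow_right (by omega) hn
    have hn10 : n < 10 := by
      by_contra h
      push Not at h
      have : 2 ^ 10 ≤ p ^ n := (Nat.pow_le_pow_left h2 10).trans (Nat.pow_le_pow_right (by omega) h)
      simp only [Set.mem_insert_iff, Set.mem_singleton_iff] at hexc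
      omega
    have hp9 : p < 9 := by
      by_contra h
      push Not at h
      have : 9 ^ 3 ≤ p ^ n := (Nat.pow_le_pow_left h 3).trans hp3
      simp only [Set.mem_insert_iff, Set.mem_singleton_iff] at hexc
      omega
    have key : ∀ a b : ℕ, a.Prime → a < 9 → 2 ≤ a → b < 10 → 3 ≤ b →
        a ^ b ∈ ({9, 25, 49, 121, 529, 81} : Set ℕ) → a = 3 ∧ b = 4 := by
      intro a b ha ha9 ha2 hb hb3 hab
      interval_cases a <;> interval_cases b <;> revert hab ha <;> norm_num
    obtain ⟨hpe, hne⟩ := key p n hp' hp9 h2 hn10 hn hexc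
    subst hpe hne
    norm_num at hL
    have hL' : L = 130 := by omega
    rw [hL'] at hdvd
    exact not_exceptional G hfin ((show 65 ∣ 130 * (3 - 1) by norm_num).trans hdvd)

end Cfsg.Agent.ConjPSub
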